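import Groth.Agent.AlgSpDec.LimAffineModel
import Groth.Agent.AlgSpLib.Sheaf

/-!
# Base change of cofiltered systems, descent of maps along a covering
-/

set_option backward.isDefEq.respectTransparency false
set_option backward.isDefEq.respectTransparency.types false

universe v u

open CategoryTheory Limits Opposite AlgebraicGeometry AlgSp

namespace Groth.Agent.AlgSpLib.LimPresLfp

section Generic

variable {C : Type v} [Category.{u} C] [HasPullbacks C] {I : Type u} [SmallCategory I]
  (D : I ⥤ C) {j : I} {Z : C} (p : Z ⟶ D.obj j)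

/-- The base change of a system along a map to one stage. -/
noncomputable def bc : CategoryTheory.Over j ⥤ C where
  obj o := pullback p (D.map o.hom)
  map {o o'} φ := pullback.map _ _ _ _ (𝟙 _) (D.map φ.left) (𝟙 _) (by simp)
    (by rw [Category.comp_id, ← D.map_comp, Over.w φ])
  map_id o := pullback.hom_ext (by simp) (by simp)
  map_comp φ ψ := pullback.hom_ext (by simp) (by simp)

/-- The projection of the base change of a system to the system. -/
noncomputable def bcProj : bc D p ⟶ CategoryTheory.Over.forget j ⋙ D where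
  app o := pullback.snd p (D.map o.hom)
  naturality _ _ _ := pullback.lift_snd _ _ _

variable {D p} (c : Cone D) {P : C} {a : P ⟶ Z} {b : P ⟶ c.pt}

/-- The cone of the base change of a system. -/
noncomputable def bcCone (w : a ≫ p = b ≫ c.π.app j) : Cone (bc D p) where
  pt := P
  π :=
    { app := fun o => pullback.lift a (b ≫ c.π.app o.left) (by rw [w, Category.assoc, c.w o.hom])
      naturality := fun o o' φ => pullback.hom_ext (by simp [bc]) (by simp [bc]) }

variable [IsCofiltered I]

/-- The base change of a limit cone is a limit cone. -/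
theorem nonempty_isLimit_bcCone (hc : IsLimit c) (sq : IsPullback a b p (c.π.app j)) :
    Nonempty (IsLimit (bcCone c sq.w)) := by
  have := IsCofiltered.isConnected (CategoryTheory.Over j)
  let hc' := (Functor.Initial.isLimitWhiskerEquiv (CategoryTheory.Over.forget j) c).symm hc
  let c₂ : Cone (bc D p) → Cone (CategoryTheory.Over.forget j ⋙ D) := fun s =>
    { pt := s.pt
      π := s.π ≫ bcProj D p }
  let top : CategoryTheory.Over j := CategoryTheory.Over.mk (𝟙 j)
  have hfst : ∀ (s : Cone (bc D p)) (o o' : CategoryTheory.Over j),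
      s.π.app o ≫ pullback.fst p (D.map o.hom) = s.π.app o' ≫ pullback.fst p (D.map o'.hom) :=
    fun s o o' => by
      obtain ⟨l, x, y, -⟩ := IsCofilteredOrEmpty.cone_objs o o'
      rw [← s.w x, ← s.w y]
      simp [bc]
  have hcond : ∀ s, (s.π.app top ≫ pullback.fst p (D.map top.hom)) ≫ p =
      hc'.lift (c₂ s) ≫ c.π.app j := fun s => by
    refine Eq.trans ?_ (hc'.fac (c₂ s) top).symm
    simp [c₂, bcProj, top, pullback.condition]
  exact ⟨
    { lift := fun s => sq.lift _ _ (hcond s)
      fac := fun s o => pullback.hom_ext (by simp [bcCone, hfst s o top]) (by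
        simp only [bcCone, Category.assoc, pullback.lift_snd]
        rw [IsPullback.lift_snd_assoc]
        exact hc'.fac (c₂ s) o)
      uniq := fun s l hl => sq.hom_ext (by simp [← hl top, bcCone])
        (hc'.hom_ext fun o => by
          refine Eq.trans ?_ ((congrArg (· ≫ c.π.app o.left) (sq.lift_snd _ _ (hcond s))).trans
            (hc'.fac (c₂ s) o)).symm
          simp [c₂, bcProj, ← hl o, bcCone]) }⟩

variable {J : Type u} [SmallCategory J] {E E' : J ⥤ C} (q : E ⟶ E')

/-- The levelwise self fibre product of a map of systems. -/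
noncomputable def sq2 : J ⥤ C where
  obj o := pullback (q.app o) (q.app o)
  map {o o'} φ := pullback.map _ _ _ _ (E.map φ) (E.map φ) (E'.map φ) (q.naturality φ).symm
    (q.naturality φ).symm
  map_id o := pullback.hom_ext (by simp) (by simp)
  map_comp φ ψ := pullback.hom_ext (by simp) (by simp)

variable {q} {cE : Cone E} {cE' : Cone E'} {g : cE.pt ⟶ cE'.pt} {P' : C} {x y : P' ⟶ cE.pt}

/-- The cone of the levelwise self fibre product. -/
noncomputable def sq2Cone (hg : ∀ o, g ≫ cE'.π.app o = cE.π.app o ≫ q.app o)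
    (w : x ≫ g = y ≫ g) : Cone (sq2 q) where
  pt := P'
  π :=
    { app := fun o => pullback.lift (x ≫ cE.π.app o) (y ≫ cE.π.app o) (by
        rw [Category.assoc, Category.assoc, ← hg, reassoc_of% w])
      naturality := fun o o' φ => pullback.hom_ext
        (by simp [sq2]) (by simp [sq2]) }

/-- The levelwise self fibre product of limit cones is a limit cone. -/
theorem nonempty_isLimit_sq2Cone (hE : IsLimit cE) (hE' : IsLimit cE')
    (hg : ∀ o, g ≫ cE'.π.app o = cE.π.app o ≫ q.app o) (sq : IsPullback x y g g) :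
    Nonempty (IsLimit (sq2Cone hg sq.w)) := by
  let l₁ : Cone (sq2 q) → Cone E := fun s =>
    { pt := s.pt
      π := { app := fun o => s.π.app o ≫ pullback.fst _ _
             naturality := fun o o' φ => by
               dsimp
               rw [Category.id_comp, ← s.w φ]
               simp [sq2] } }
  let l₂ : Cone (sq2 q) → Cone E := fun s =>
    { pt := s.pt
      π := { app := fun o => s.π.app o ≫ pullback.snd _ _
             naturality := fun o o' φ => by
               dsimp
               rw [Category.id_comp, ← s.w φ]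
               simp [sq2] } }
  have hcond : ∀ s, hE.lift (l₁ s) ≫ g = hE.lift (l₂ s) ≫ g := fun s => hE'.hom_ext fun o => by
    simp [hg, l₁, l₂, pullback.condition]
  exact ⟨
    { lift := fun s => sq.lift _ _ (hcond s)
      fac := fun s o => pullback.hom_ext (by simp [sq2Cone, l₁]) (by simp [sq2Cone, l₂])
      uniq := fun s l hl => sq.hom_ext
        (hE.hom_ext fun o => by simp [← hl o, sq2Cone, l₁])
        (hE.hom_ext fun o => by simp [← hl o, sq2Cone, l₂]) }⟩

end Generic

variable {S : Scheme.{u}} {F : Sp S}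

/-- Descent of maps to a sheaf along a single covering. -/
theorem exists_desc_fppf {T' T P : Over S} (g : T' ⟶ T) (hg : fppf g.left) {p₁ p₂ : P ⟶ T'}
    (hP : IsPullback p₁ p₂ g g) (x : (yon S).obj T' ⟶ F)
    (hx : (yon S).map p₁ ≫ x = (yon S).map p₂ ≫ x) :
    ∃ l : (yon S).obj T ⟶ F, (yon S).map g ≫ l = x := by
  have hsh : Presieve.IsSheafFor F.obj (Presieve.singleton g) := by
    rw [Presieve.isSheafFor_iff_generate]
    exact (isSheaf_iff_isSheaf_of_type _ _).1 F.property _
      (mem_J_of_fppf g hg _ ⟨_, 𝟙 _, g, Presieve.singleton_self g, Category.id_comp _⟩)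
  let fam : Presieve.FamilyOfElements F.obj (Presieve.singleton g) := fun Y ψ hψ => by
    cases hψ
    exact (J S).uliftYonedaEquiv x
  have hcompat : fam.Compatible := by
    rintro Y₁ Y₂ Z g₁ g₂ f₁ f₂ ⟨⟩ ⟨⟩ w
    change F.obj.map g₁.op ((J S).uliftYonedaEquiv x) = F.obj.map g₂.op ((J S).uliftYonedaEquiv x)
    rw [uliftYonedaEquiv_precomp, uliftYonedaEquiv_precomp, ← hP.lift_fst _ _ w]
    conv_rhs => rw [← hP.lift_snd g₁ g₂ w]
    rw [Functor.map_comp, Functor.map_comp, Category.assoc, Category.assoc, hx]
  refine ⟨(J S).uliftYonedaEquiv.symm (hsh.amalgamate fam hcompat), ?_⟩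
  apply (J S).uliftYonedaEquiv.injective
  rw [← uliftYonedaEquiv_precomp, Equiv.apply_symm_apply]
  exact hsh.valid_glue hcompat g (Presieve.singleton_self g)

/-- An etale surjection onto a quasi-compact scheme is dominated by an affine one. -/
theorem exists_affine_refine {T' T : Over S} [CompactSpace ↥T.left] (g : T' ⟶ T) [Etale g.left]
    [Surjective g.left] :
    ∃ (T'' : Over S) (r : T'' ⟶ T'), IsAffine T''.left ∧ Etale (r ≫ g).left ∧
      Surjective (r ≫ g).left := by
  have hT : ∀ t : ↥T.left, ∃ (i : T'.left.affineOpenCover.I₀)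
      (x : ↥(Spec (T'.left.affineOpenCover.X i))), (T'.left.affineOpenCover.f i ≫ g.left) x = t := by
    intro t
    obtain ⟨y, rfl⟩ := g.left.surjective t
    obtain ⟨i, x, rfl⟩ := T'.left.affineOpenCover.openCover.exists_eq y
    exact ⟨i, x, rfl⟩
  choose i x hx using hT
  have : ∀ t : ↥T.left, IsOpenImmersion (T'.left.affineOpenCover.f (i t)) := fun t =>
    T'.left.affineOpenCover.openCover.map_prop (i t)
  obtain ⟨s, hs⟩ := isCompact_univ.elim_finite_subcover
    (fun t => Set.range (T'.left.affineOpenCover.f (i t) ≫ g.left))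
    (fun t => (T'.left.affineOpenCover.f (i t) ≫ g.left).isOpenMap.isOpen_range)
    (fun t _ => Set.mem_iUnion.2 ⟨t, x t, hx t⟩)
  let U := fun t : (s : Type u) => Spec (T'.left.affineOpenCover.X (i t.1))
  let r₀ : (∐ U) ⟶ T'.left := Sigma.desc fun t => T'.left.affineOpenCover.f (i t.1)
  refine ⟨Over.mk (r₀ ≫ T'.hom), Over.homMk r₀ rfl, inferInstanceAs (IsAffine (∐ U)), ?_, ?_⟩
  · have : Etale r₀ := IsZariskiLocalAtSource.sigmaDesc (P := @Etale) fun t => inferInstance
    show Etale (r₀ ≫ g.left)
    infer_instance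
  · refine ⟨fun t => ?_⟩
    obtain ⟨t₀, ht₀, y, hy⟩ := Set.mem_iUnion₂.1 (hs (Set.mem_univ t))
    refine ⟨Sigma.ι U ⟨t₀, ht₀⟩ y, ?_⟩
    show (r₀ ≫ g.left) (Sigma.ι U ⟨t₀, ht₀⟩ y) = t
    rw [← Scheme.Hom.comp_apply, ← Category.assoc, Sigma.ι_desc]
    exact hy

end Groth.Agent.AlgSpLib.LimPresLfp
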