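import Groth.Agent.AlgSpLib.LimPresLfp.RelLP
import Groth.Agent.AlgSpLib.LimPresLfp.Retract

/-!
# Lifting points through limits gives local finite presentation
-/

set_option backward.isDefEq.respectTransparency false
set_option backward.isDefEq.respectTransparency.types false

universe u

open CategoryTheory Limits Opposite AlgebraicGeometry AlgSp

namespace Groth.Agent.AlgSpLib.LimPresLfp

variable {S : Scheme.{u}} {X Y : Sp S}

theorem locP_lfp_yon_etale {U : Over S} {a : (yon S).obj U ⟶ X} (ha : RepWith @Etale a) :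
    LocP @LocallyOfFinitePresentation a := fun U' V' a' b' k ha' hb' w => by
  have : Etale k.left := locP_of_repWith ha a' b' k ha' hb' w
  infer_instance

variable (hX : IsAlgSpace X) (hY : IsAlgSpace Y) (f : X ⟶ Y)
  (H : ∀ ⦃I : Type u⦄ [SmallCategory I] [IsCofiltered I] (D : I ⥤ Over S) (c : Cone D),
      IsLimit ((Over.forget S).mapCone c) → (∀ i, IsAffine (D.obj i).left) → IsAffine c.pt.left →
      ∀ (x : (yon S).obj c.pt ⟶ X) (i : I) (y : (yon S).obj (D.obj i) ⟶ Y),
        x ≫ f = (yon S).map (c.π.app i) ≫ y →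
        ∃ (i' : I) (φ : i' ⟶ i) (x' : (yon S).obj (D.obj i') ⟶ X),
          (yon S).map (c.π.app i') ≫ x' = x ∧ x' ≫ f = (yon S).map (D.map φ) ≫ y)

include hX hY H in
/-- The retraction property on an affine chart. -/
theorem retractProp_of_lifts {A B : Type u} [CommRing A] [CommRing B] [Algebra B A]
    (v : Spec (CommRingCat.of B) ⟶ S)
    (a : (yon S).obj (Over.mk (Spec.map (CommRingCat.ofHom (algebraMap B A)) ≫ v)) ⟶ X)
    (b : (yon S).obj (Over.mk v) ⟶ Y) (ha : RepWith @Etale a) (hb : RepWith @Etale b)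
    (w : a ≫ f = (yon S).map (Over.homMk (Spec.map (CommRingCat.ofHom (algebraMap B A))) rfl :
      Over.mk (Spec.map (CommRingCat.ofHom (algebraMap B A)) ≫ v) ⟶ Over.mk v) ≫ b) :
    RetractProp B A := by
  intro J _ _ F c hc e r hr hre
  let U : Over S := Over.mk (Spec.map (CommRingCat.ofHom (algebraMap B A)) ≫ v)
  let h : U ⟶ Over.mk v := Over.homMk (Spec.map (CommRingCat.ofHom (algebraMap B A))) rfl
  let D : Jᵒᵖ ⥤ Over S :=
    { obj := fun j => Over.mk (Spec.map (r j.unop) ≫ v)
      map := fun {j j'} φ => Over.homMk (Spec.map (F.map φ.unop)) (by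
        show Spec.map (F.map φ.unop) ≫ Spec.map (r j'.unop) ≫ v = Spec.map (r j.unop) ≫ v
        rw [← Category.assoc, ← Spec.map_comp, hr])
      map_id := fun j => Over.OverMorphism.ext (by simp)
      map_comp := fun φ ψ => Over.OverMorphism.ext (by simp) }
  let t : ∀ j, D.obj j ⟶ Over.mk v := fun j => Over.homMk (Spec.map (r j.unop)) rfl
  let cD : Cone D :=
    { pt := U
      π :=
        { app := fun j => Over.homMk (Spec.map (c.ι.app j.unop ≫ e.hom)) (by
            show Spec.map _ ≫ Spec.map (r j.unop) ≫ v = Spec.map _ ≫ v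
            rw [← Category.assoc, ← Spec.map_comp, hre])
          naturality := fun j j' φ => Over.OverMorphism.ext (by
            show 𝟙 _ ≫ Spec.map _ = Spec.map _ ≫ Spec.map (F.map φ.unop)
            rw [Category.id_comp, ← Spec.map_comp, ← Category.assoc, c.w φ.unop]) } }
  let c' : Cocone F :=
    { pt := CommRingCat.of A
      ι := c.ι ≫ (Functor.const J).map e.hom }
  have hc' : IsColimit c' := IsColimit.ofIsoColimit hc (Cocone.ext e (fun j => rfl))
  have : PreservesLimitsOfSize.{u, u} Scheme.Spec.{u} :=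
    ΓSpec.adjunction.rightAdjoint_preservesLimits
  have hl : IsLimit (Scheme.Spec.mapCone c'.op) := isLimitOfPreserves Scheme.Spec hc'.op
  have hlim : IsLimit ((Over.forget S).mapCone cD) :=
    { lift := fun s => hl.lift ⟨s.pt, ⟨fun j => s.π.app j, fun j j' φ => s.π.naturality φ⟩⟩
      fac := fun s j => hl.fac ⟨s.pt, ⟨fun j => s.π.app j, fun j j' φ => s.π.naturality φ⟩⟩ j
      uniq := fun s m hm =>
        hl.uniq ⟨s.pt, ⟨fun j => s.π.app j, fun j j' φ => s.π.naturality φ⟩⟩ m hm }
  have hA : ∀ j, IsAffine (D.obj j).left := fun j => inferInstanceAs (IsAffine (Spec _))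
  have : IsAffine cD.pt.left := inferInstanceAs (IsAffine (Spec _))
  have hπt : ∀ j, cD.π.app j ≫ t j = h := fun j => Over.OverMorphism.ext (by
    show Spec.map _ ≫ Spec.map (r j.unop) = Spec.map _
    rw [← Spec.map_comp, hre])
  obtain ⟨j₀⟩ := IsFiltered.nonempty (C := J)
  obtain ⟨i, φ, x', hx₁, hx₂⟩ := H D cD hlim hA this a (op j₀) ((yon S).map (t (op j₀)) ≫ b) (by
    rw [w, ← Functor.map_comp_assoc, hπt])
  obtain ⟨k, ψ, z, hz₁, hz₂⟩ := exists_lift_stage (IsAlgSpace.yon_obj U) hX a (locP_lfp_yon_etale ha)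
    D cD hlim hA (i := i) (𝟙 _) x' (by rw [Category.id_comp, hx₁])
  obtain ⟨g, rfl⟩ := (yon S).map_surjective z
  have hg₁ : cD.π.app k ≫ g = 𝟙 U := (yon S).map_injective (by
    rw [Functor.map_comp, hz₁]
    exact ((yon S).map_id _).symm)
  have htw : ∀ {j j' : Jᵒᵖ} (χ : j ⟶ j'), D.map χ ≫ t j' = t j := fun {j j'} χ =>
    Over.OverMorphism.ext (by
      show Spec.map (F.map χ.unop) ≫ Spec.map (r j'.unop) = Spec.map (r j.unop)
      rw [← Spec.map_comp, hr])
  obtain ⟨l, χ, hl'⟩ := exists_eq_stage (IsAlgSpace.yon_obj (Over.mk v)) hY b (locP_lfp_yon_etale hb)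
    D cD hlim hA (i := k) ((yon S).map (g ≫ h)) ((yon S).map (t k)) (by
      rw [Functor.map_comp, Category.assoc, ← w, ← Category.assoc, hz₂, Category.assoc, hx₂,
        ← Functor.map_comp_assoc, ← Functor.map_comp_assoc, Category.assoc]
      congr 2
      rw [← Category.assoc, ← D.map_comp, htw])
    (by
      rw [← Functor.map_comp, ← Functor.map_comp, ← Category.assoc, hg₁, hπt]
      exact congrArg _ (Category.id_comp _))
  let g' : D.obj l ⟶ U := D.map χ ≫ g
  have hg'h : g' ≫ h = t l := by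
    refine (yon S).map_injective ?_
    rw [show g' ≫ h = D.map χ ≫ (g ≫ h) from Category.assoc _ _ _, Functor.map_comp, hl',
      ← Functor.map_comp, htw]
  have hg'π : cD.π.app l ≫ g' = 𝟙 U := by
    show cD.π.app l ≫ D.map χ ≫ g = _
    rw [← Category.assoc, cD.w, hg₁]
  obtain ⟨s, hs⟩ := Spec.map_surjective (g'.left : Spec (F.obj l.unop) ⟶ Spec (CommRingCat.of A))
  refine ⟨l.unop, s, Spec.map_injective ?_, Spec.map_injective ?_⟩
  · rw [Spec.map_comp, Spec.map_id, hs]
    exact congrArg CommaMorphism.left hg'π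
  · rw [Spec.map_comp, hs]
    exact congrArg CommaMorphism.left hg'h

include hX hY H in
/-- Lifting points of limits gives local finite presentation. -/
theorem locP_lfp_of_lifts : LocP @LocallyOfFinitePresentation f := by
  intro U V a b h ha hb w
  rw [HasRingHomProperty.iff_appLE (P := @LocallyOfFinitePresentation)]
  intro V' U' e
  let φ := h.left.appLE V'.1 U'.1 e
  let _ : Algebra Γ(V.left, V'.1) Γ(U.left, U'.1) := φ.hom.toAlgebra
  let v : Spec (CommRingCat.of Γ(V.left, V'.1)) ⟶ S := V'.2.fromSpec ≫ V.hom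
  let ιV : Over.mk v ⟶ V := Over.homMk V'.2.fromSpec rfl
  let ιU : Over.mk (Spec.map φ ≫ v) ⟶ U := Over.homMk U'.2.fromSpec (by
    show U'.2.fromSpec ≫ U.hom = Spec.map φ ≫ V'.2.fromSpec ≫ V.hom
    rw [V'.2.SpecMap_appLE_fromSpec_assoc h.left U'.2 e, Over.w h])
  have h1 : RepWith @Etale ((yon S).map ιU ≫ a) :=
    repWith_comp ((repWith_yon_map_iff _ ιU).2 (inferInstanceAs (Etale U'.2.fromSpec))) ha
  have h2 : RepWith @Etale ((yon S).map ιV ≫ b) :=
    repWith_comp ((repWith_yon_map_iff _ ιV).2 (inferInstanceAs (Etale V'.2.fromSpec))) hb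
  exact finitePresentation_of_retract (retractProp_of_lifts hX hY f H v ((yon S).map ιU ≫ a)
    ((yon S).map ιV ≫ b) h1 h2 (by
      rw [Category.assoc, w, ← Functor.map_comp_assoc, ← Functor.map_comp_assoc]
      exact congrArg (fun k => (yon S).map k ≫ b) (Over.OverMorphism.ext
        (V'.2.SpecMap_appLE_fromSpec h.left U'.2 e).symm)))

end Groth.Agent.AlgSpLib.LimPresLfp
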