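import Groth.Agent.AlgSpLib.LimPresLfp.System
import Groth.Agent.AlgSpDec.LimDescentDiag
import Groth.Agent.AlgSpPts.LimPres

/-!
# Morphisms locally of finite presentation are limit preserving
-/

set_option backward.isDefEq.respectTransparency false
set_option backward.isDefEq.respectTransparency.types false

universe u

open CategoryTheory Limits Opposite AlgebraicGeometry AlgSp

namespace Groth.Agent.AlgSpLib.LimPresLfp

variable {S : Scheme.{u}} {J : Type u} [SmallCategory J] [IsCofiltered J]

/-- A map from the limit to a scheme of finite presentation over a scheme comes from a stage. -/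
theorem exists_stage (W : J ⥤ Over S) (hWA : ∀ o, IsAffine (W.obj o).left) (cW : Cone W)
    (hcW : IsLimit ((Over.forget S).mapCone cW)) {B Z : Over S} (h : Z ⟶ B)
    [LocallyOfFinitePresentation h.left] (t : ∀ o, W.obj o ⟶ B)
    (ht : ∀ {o o' : J} (φ : o ⟶ o'), W.map φ ≫ t o' = t o) (a : cW.pt ⟶ Z)
    (ha : ∀ o, a ≫ h = cW.π.app o ≫ t o) :
    ∃ (o : J) (g : W.obj o ⟶ Z), cW.π.app o ≫ g = a ∧ g ≫ h = t o := by
  have : ∀ j, IsAffine ((W ⋙ Over.forget S).obj j) := hWA
  have : ∀ {j k : J} (f : j ⟶ k), IsAffineHom ((W ⋙ Over.forget S).map f) := fun f => inferInstance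
  let τ : W ⋙ Over.forget S ⟶ (Functor.const J).obj B.left :=
    { app := fun j => (t j).left
      naturality := fun j k f => ((congrArg CommaMorphism.left (ht f)).trans (Category.comp_id _).symm) }
  obtain ⟨j, g, hg, hg'⟩ := Scheme.exists_π_app_comp_eq_of_locallyOfFinitePresentation
    (W ⋙ Over.forget S) τ h.left ((Over.forget S).mapCone cW) hcW a.left
    (by ext j; exact (congrArg CommaMorphism.left (ha j)).symm)
  refine ⟨j, Over.homMk g ?_, Over.OverMorphism.ext hg, Over.OverMorphism.ext hg'⟩
  rw [← Over.w h, ← Category.assoc, hg']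
  exact Over.w (t j)

variable {X Y : Sp S} (hX : IsAlgSpace X) (hY : IsAlgSpace Y) (f : X ⟶ Y)
  (hf : LocP @LocallyOfFinitePresentation f)

variable {I : Type u} [SmallCategory I] [IsCofiltered I] (D : I ⥤ Over S) (c : Cone D)
  (hc : IsLimit ((Over.forget S).mapCone c)) (hD : ∀ i, IsAffine (D.obj i).left)

include hX hY hf hc hD in
/-- Two points over a stage which agree on the limit agree at a finer stage. -/
theorem exists_eq_stage {i : I} (x x' : (yon S).obj (D.obj i) ⟶ X) (h : x ≫ f = x' ≫ f)
    (hlim : (yon S).map (c.π.app i) ≫ x = (yon S).map (c.π.app i) ≫ x') :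
    ∃ (k : I) (φ : k ⟶ i), (yon S).map (D.map φ) ≫ x = (yon S).map (D.map φ) ≫ x' := by
  have hr : Representable (pullback.diagonal f) := representable_diagonal hX f
  have hft : LocP @LocallyOfFiniteType f := fun U V a b k ha hb w => by
    have : LocallyOfFinitePresentation k.left := hf a b k ha hb w
    infer_instance
  have hrw : RepWith @LocallyOfFinitePresentation (pullback.diagonal f) :=
    repWith_of_locP (isAlgSpace_pullback hX hX hY f f) hr (AlgSpDec.locP_lfp_diagonal hX hY f hft)
  let m := pullback.lift x x' h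
  have hP := hr.isPullback m
  have : LocallyOfFinitePresentation (hr.snd m).left := hrw.2 m _ _ hP
  have hcomp : ((yon S).map (c.π.app i) ≫ x) ≫ pullback.diagonal f = (yon S).map (c.π.app i) ≫ m := by
    apply pullback.hom_ext
    · simp [m]
    · simp [m, hlim]
  obtain ⟨e, he⟩ := (yon S).map_surjective (hP.lift _ _ hcomp)
  have he₂ : e ≫ hr.snd m = c.π.app i := (yon S).map_injective (by
    rw [Functor.map_comp, he, hP.lift_snd])
  let W := CategoryTheory.Over.forget i ⋙ D
  obtain ⟨o, g, -, hg⟩ := exists_stage W (fun o => hD o.left)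
    (Cone.whisker (CategoryTheory.Over.forget i) c)
    ((Functor.Initial.isLimitWhiskerEquiv (CategoryTheory.Over.forget i)
      ((Over.forget S).mapCone c)).symm hc)
    (hr.snd m) (fun o => D.map o.hom)
    (fun {o o'} φ => by
      show D.map φ.left ≫ D.map o'.hom = _
      rw [← D.map_comp, Over.w φ])
    e (fun o => by rw [he₂]; exact (c.w o.hom).symm)
  refine ⟨o.left, o.hom, ?_⟩
  have key : (yon S).map (hr.snd m) ≫ x = (yon S).map (hr.snd m) ≫ x' := by
    have h1 := congrArg (· ≫ pullback.fst f f) hP.w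
    have h2 := congrArg (· ≫ pullback.snd f f) hP.w
    simp only [m, Category.assoc, pullback.diagonal_fst, pullback.diagonal_snd, pullback.lift_fst,
      pullback.lift_snd] at h1 h2
    exact h1.symm.trans h2
  rw [← hg, Functor.map_comp, Category.assoc, Category.assoc, key]

include hX hY hf in
/-- Descent of a point of a covering system to the system. -/
theorem exists_desc_stage {D' E : J ⥤ Over S} (hDA : ∀ o, IsAffine (D'.obj o).left)
    (q : E ⟶ D') (hqa : ∀ o, IsAffineHom (q.app o).left) (hqf : ∀ o, fppf (q.app o).left)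
    {cD : Cone D'} (hcD : IsLimit cD) {cE : Cone E} (hcE : IsLimit cE) (g : cE.pt ⟶ cD.pt)
    (hgf : fppf g.left) (hgE : ∀ o, g ≫ cD.π.app o = cE.π.app o ≫ q.app o)
    (x : (yon S).obj cD.pt ⟶ X) (yb : ∀ o, (yon S).obj (D'.obj o) ⟶ Y)
    (hyb : ∀ {o o' : J} (φ : o ⟶ o'), (yon S).map (D'.map φ) ≫ yb o' = yb o)
    {o : J} (z : (yon S).obj (E.obj o) ⟶ X) (hzf : z ≫ f = (yon S).map (q.app o) ≫ yb o)
    (hzlim : (yon S).map (cE.π.app o) ≫ z = (yon S).map g ≫ x) :
    ∃ (o' : J) (w : (yon S).obj (D'.obj o') ⟶ X),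
      (yon S).map (cD.π.app o') ≫ w = x ∧ w ≫ f = yb o' := by
  have := IsCofiltered.isConnected J
  have hEA : ∀ o, IsAffine (E.obj o).left := fun o => by
    have := hqa o
    have := hDA o
    exact isAffine_of_isAffineHom (q.app o).left
  obtain ⟨hcE2⟩ := nonempty_isLimit_sq2Cone hcE hcD hgE (IsPullback.of_hasPullback g g)
  have hE2A : ∀ o, IsAffine ((sq2 q).obj o).left := fun o => by
    have := hEA o
    have : IsAffineHom (pullback.fst (q.app o) (q.app o)).left :=
      MorphismProperty.of_isPullback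
        ((IsPullback.of_hasPullback (q.app o) (q.app o)).map (Over.forget S)).flip (hqa o)
    exact isAffine_of_isAffineHom (pullback.fst (q.app o) (q.app o)).left
  have hf' : ((yon S).map (pullback.fst (q.app o) (q.app o)) ≫ z) ≫ f =
      ((yon S).map (pullback.snd (q.app o) (q.app o)) ≫ z) ≫ f := by
    rw [Category.assoc, Category.assoc, hzf, ← Functor.map_comp_assoc, ← Functor.map_comp_assoc,
      pullback.condition]
  obtain ⟨o', φ, hφ⟩ := exists_eq_stage hX hY f hf (sq2 q)
    (sq2Cone hgE (IsPullback.of_hasPullback g g).w) (isLimitOfPreserves (Over.forget S) hcE2)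
    hE2A (i := o) ((yon S).map (pullback.fst (q.app o) (q.app o)) ≫ z)
    ((yon S).map (pullback.snd (q.app o) (q.app o)) ≫ z) hf'
    (by
      rw [← Functor.map_comp_assoc, ← Functor.map_comp_assoc]
      show (yon S).map (pullback.lift _ _ _ ≫ pullback.fst _ _) ≫ z =
        (yon S).map (pullback.lift _ _ _ ≫ pullback.snd _ _) ≫ z
      rw [pullback.lift_fst, pullback.lift_snd, Functor.map_comp_assoc, Functor.map_comp_assoc, hzlim,
        ← Functor.map_comp_assoc, ← Functor.map_comp_assoc, pullback.condition])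
  obtain ⟨w, hw⟩ := exists_desc_fppf (q.app o') (hqf o')
    (IsPullback.of_hasPullback (q.app o') (q.app o')) ((yon S).map (E.map φ) ≫ z) (by
      rw [← Functor.map_comp_assoc, ← Functor.map_comp_assoc,
        show pullback.fst (q.app o') (q.app o') ≫ E.map φ =
          (sq2 q).map φ ≫ pullback.fst (q.app o) (q.app o) from (pullback.lift_fst _ _ _).symm,
        show pullback.snd (q.app o') (q.app o') ≫ E.map φ =
          (sq2 q).map φ ≫ pullback.snd (q.app o) (q.app o) from (pullback.lift_snd _ _ _).symm,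
        Functor.map_comp_assoc, Functor.map_comp_assoc, hφ])
  refine ⟨o', w, ?_, ?_⟩
  · refine hom_ext_of_fppf g hgf _ _ ?_
    rw [← Functor.map_comp_assoc, hgE, Functor.map_comp_assoc, hw, ← Functor.map_comp_assoc,
      cE.w φ, hzlim]
  · refine hom_ext_of_fppf (q.app o') (hqf o') _ _ ?_
    rw [← Category.assoc, hw, Category.assoc, hzf, ← Functor.map_comp_assoc, q.naturality φ,
      Functor.map_comp_assoc, hyb]

include hX hY hf hc hD in
/-- A point of the limit over a point of a stage comes from a finer stage. -/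
theorem exists_lift_stage [IsAffine c.pt.left] {i : I} (x : (yon S).obj c.pt ⟶ X)
    (y : (yon S).obj (D.obj i) ⟶ Y) (hxy : x ≫ f = (yon S).map (c.π.app i) ≫ y) :
    ∃ (k : I) (φ : k ⟶ i) (z : (yon S).obj (D.obj k) ⟶ X),
      (yon S).map (c.π.app k) ≫ z = x ∧ z ≫ f = (yon S).map (D.map φ) ≫ y := by
  have := IsCofiltered.isConnected I
  have hcO : IsLimit c := isLimitOfReflects (Over.forget S) hc
  have hW : IsAlgSpace (pullback f y) :=
    isAlgSpace_pullback hX (IsAlgSpace.yon_obj _) hY f y
  obtain ⟨U, aW, haW, haW'⟩ := hW.atlas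
  obtain ⟨hU, hhU⟩ := (yon S).map_surjective (aW ≫ pullback.snd f y)
  have : LocallyOfFinitePresentation hU.left :=
    (locP_of_isPullback (IsPullback.of_hasPullback f y) hX hY (IsAlgSpace.yon_obj _) hf) aW
      (𝟙 _) hU haW (repWith_id _ _) (by rw [Category.comp_id, hhU])
  let s : (yon S).obj c.pt ⟶ pullback f y := pullback.lift x ((yon S).map (c.π.app i)) hxy
  have hPs := haW.1.isPullback s
  have : Etale (haW.1.snd s).left := haW.2 s _ _ hPs
  have : Surjective (haW.1.snd s).left := haW'.2 s _ _ hPs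
  obtain ⟨T', r, hT'aff, hget, hgsurj⟩ := exists_affine_refine (haW.1.snd s)
  obtain ⟨q₁, hq₁⟩ := (yon S).map_surjective (haW.1.fst s)
  let g : T' ⟶ c.pt := r ≫ haW.1.snd s
  let x' : T' ⟶ U := r ≫ q₁
  have hx' : (yon S).map x' ≫ aW = (yon S).map g ≫ s := by
    simp only [x', g, Functor.map_comp, Category.assoc]
    rw [hq₁, hPs.w]
  have hx'U : x' ≫ hU = g ≫ c.π.app i := (yon S).map_injective (by
    rw [Functor.map_comp, hhU, reassoc_of% hx', pullback.lift_snd]
    simp only [g, Functor.map_comp, Category.assoc])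
  have : IsAffine T'.left := hT'aff
  have hge : Etale g.left := hget
  have hgs : Surjective g.left := hgsurj
  obtain ⟨Y₀, U₀, q, π₀, q', -, hπe, hπs, hπa, hY₀, sq⟩ :=
    AlgSpDec.exists_etale_affine_model g.left
  have : ∀ j, IsAffine ((D ⋙ Over.forget S).obj j) := hD
  have : ∀ {j k : I} (φ : j ⟶ k), IsAffineHom ((D ⋙ Over.forget S).map φ) := fun φ => inferInstance
  let τ : D ⋙ Over.forget S ⟶ (Functor.const I).obj (⊤_ Scheme.{u}) :=
    { app := fun j => terminal.from _
      naturality := fun _ _ _ => terminal.hom_ext _ _ }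
  obtain ⟨j₀, q₀, hq₀, -⟩ := Scheme.exists_π_app_comp_eq_of_locallyOfFinitePresentation
    (D ⋙ Over.forget S) τ (terminal.from Y₀) ((Over.forget S).mapCone c) hc q
    (by ext j; exact terminal.hom_ext _ _)
  obtain ⟨j, αi, α₀, -⟩ := IsCofilteredOrEmpty.cone_objs i j₀
  let qj : (D.obj j).left ⟶ Y₀ := (D.map α₀).left ≫ q₀
  have hqj : (c.π.app j).left ≫ qj = q := by
    rw [← hq₀]
    show _ ≫ (D.map α₀).left ≫ q₀ = (c.π.app j₀).left ≫ q₀
    rw [← Category.assoc, ← Over.comp_left, c.w]
  let Z : Over S := Over.mk (pullback.snd π₀ qj ≫ (D.obj j).hom)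
  let pZ : Z ⟶ D.obj j := Over.homMk (pullback.snd π₀ qj) rfl
  let aZ : T' ⟶ Z := Over.homMk (pullback.lift q' (g ≫ c.π.app j).left (by
      rw [Over.comp_left, Category.assoc, hqj]; exact sq.w)) (by
    show _ ≫ pullback.snd π₀ qj ≫ (D.obj j).hom = T'.hom
    rw [pullback.lift_snd_assoc]
    exact Over.w (g ≫ c.π.app j))
  have sqL : IsPullback aZ.left g.left pZ.left (c.π.app j).left :=
    IsPullback.of_right
      (by
        rw [show aZ.left ≫ pullback.fst π₀ qj = q' from pullback.lift_fst _ _ _, hqj]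
        exact sq)
      (pullback.lift_snd _ _ _) (IsPullback.of_hasPullback π₀ qj)
  have sqO : IsPullback aZ g pZ (c.π.app j) :=
    IsPullback.of_map (Over.forget S) (Over.OverMorphism.ext sqL.w) sqL
  let E := bc D pZ
  let qE := bcProj D pZ
  let cE : Cone E := bcCone c sqO.w
  obtain ⟨hcE⟩ := nonempty_isLimit_bcCone c hcO sqO
  let cD : Cone (CategoryTheory.Over.forget j ⋙ D) := Cone.whisker (CategoryTheory.Over.forget j) c
  have hcD : IsLimit cD :=
    (Functor.Initial.isLimitWhiskerEquiv (CategoryTheory.Over.forget j) c).symm hcO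
  have hgE : ∀ o, g ≫ cD.π.app o = cE.π.app o ≫ qE.app o := fun o => (pullback.lift_snd _ _ _).symm
  have hsqo : ∀ o : CategoryTheory.Over j,
      IsPullback (pullback.fst pZ (D.map o.hom)).left (qE.app o).left pZ.left (D.map o.hom).left :=
    fun o => (IsPullback.of_hasPullback pZ (D.map o.hom)).map (Over.forget S)
  have hpZ : IsAffineHom pZ.left := MorphismProperty.pullback_snd (P := @IsAffineHom) _ _ hπa
  have hpe : Etale pZ.left := MorphismProperty.pullback_snd (P := @Etale) _ _ hπe
  have hps : Surjective pZ.left := MorphismProperty.pullback_snd (P := @Surjective) _ _ hπs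
  have hqa : ∀ o, IsAffineHom (qE.app o).left := fun o => MorphismProperty.of_isPullback (hsqo o) hpZ
  have hqe : ∀ o, Etale (qE.app o).left := fun o => MorphismProperty.of_isPullback (hsqo o) hpe
  have hqs : ∀ o, Surjective (qE.app o).left := fun o => MorphismProperty.of_isPullback (hsqo o) hps
  have hEA : ∀ o, IsAffine (E.obj o).left := fun o => by
    have := hqa o
    have : IsAffine ((CategoryTheory.Over.forget j ⋙ D).obj o).left := hD o.left
    exact isAffine_of_isAffineHom (qE.app o).left
  obtain ⟨o, l, hl₁, hl₂⟩ := exists_stage E hEA cE (isLimitOfPreserves (Over.forget S) hcE) hU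
    (fun o => qE.app o ≫ D.map (o.hom ≫ αi))
    (fun {o o'} φ => by
      rw [reassoc_of% qE.naturality φ]
      show qE.app o ≫ D.map φ.left ≫ D.map (o'.hom ≫ αi) = _
      rw [← D.map_comp, Over.w_assoc φ])
    x' (fun o => by
      rw [hx'U, ← reassoc_of% hgE o]
      show _ = g ≫ c.π.app o.left ≫ _
      rw [c.w (o.hom ≫ αi)])
  let yb : ∀ o : CategoryTheory.Over j,
      (yon S).obj ((CategoryTheory.Over.forget j ⋙ D).obj o) ⟶ Y :=
    fun o => (yon S).map (D.map (o.hom ≫ αi)) ≫ y
  have hzf : ((yon S).map l ≫ aW ≫ pullback.fst f y) ≫ f = (yon S).map (qE.app o) ≫ yb o := by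
    rw [Category.assoc, Category.assoc, pullback.condition, ← reassoc_of% hhU,
      ← Functor.map_comp_assoc, hl₂, Functor.map_comp, Category.assoc]
  have hzlim : (yon S).map (cE.π.app o) ≫ (yon S).map l ≫ aW ≫ pullback.fst f y =
      (yon S).map g ≫ x := by
    rw [← Functor.map_comp_assoc, hl₁, reassoc_of% hx', pullback.lift_fst]
  obtain ⟨o', w, hw₁, hw₂⟩ := exists_desc_stage hX hY f hf
    (D' := CategoryTheory.Over.forget j ⋙ D) (E := E) (fun o => hD o.left) qE hqa
    (fun o => by have := hqe o; have := hqs o; exact fppf_of_etale _) (cD := cD) hcD (cE := cE) hcE g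
    (fppf_of_etale _) hgE x yb (fun {o o'} φ => by
      show (yon S).map (D.map φ.left) ≫ (yon S).map (D.map (o'.hom ≫ αi)) ≫ y =
        (yon S).map (D.map (o.hom ≫ αi)) ≫ y
      rw [← Functor.map_comp_assoc, ← D.map_comp, Over.w_assoc φ]) _ hzf hzlim
  exact ⟨o'.left, o'.hom ≫ αi, w, hw₁, hw₂⟩

include hX hY hf in
/-- Morphisms locally of finite presentation are relatively limit preserving. -/
theorem relLP : AlgSpPts.RelLP f.hom where
  surj := fun I _ _ D c hc hD hT i y x hxy => by
    obtain ⟨k, φ, z, hz₁, hz₂⟩ := exists_lift_stage hX hY f hf D c hc hD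
      ((AlgSp.J S).uliftYonedaEquiv.symm x) ((AlgSp.J S).uliftYonedaEquiv.symm y) (by
        apply (AlgSp.J S).uliftYonedaEquiv.injective
        rw [GrothendieckTopology.uliftYonedaEquiv_comp, Equiv.apply_symm_apply, ← uliftYonedaEquiv_precomp,
          Equiv.apply_symm_apply]
        exact hxy)
    refine ⟨k, φ, (AlgSp.J S).uliftYonedaEquiv z, ?_, ?_⟩
    · rw [← GrothendieckTopology.uliftYonedaEquiv_comp, hz₂, ← uliftYonedaEquiv_precomp,
        Equiv.apply_symm_apply]
    · rw [uliftYonedaEquiv_precomp, hz₁]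
      exact Equiv.apply_symm_apply _ _
  inj := fun I _ _ D c hc hD hT i x x' h h' => by
    obtain ⟨k, φ, hk⟩ := exists_eq_stage hX hY f hf D c hc hD
      ((AlgSp.J S).uliftYonedaEquiv.symm x) ((AlgSp.J S).uliftYonedaEquiv.symm x') (by
        apply (AlgSp.J S).uliftYonedaEquiv.injective
        rw [GrothendieckTopology.uliftYonedaEquiv_comp, GrothendieckTopology.uliftYonedaEquiv_comp,
          Equiv.apply_symm_apply, Equiv.apply_symm_apply]
        exact h) (by
        apply (AlgSp.J S).uliftYonedaEquiv.injective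
        rw [← uliftYonedaEquiv_precomp, ← uliftYonedaEquiv_precomp, Equiv.apply_symm_apply,
          Equiv.apply_symm_apply]
        exact h')
    refine ⟨k, φ, ?_⟩
    have := congrArg (AlgSp.J S).uliftYonedaEquiv hk
    rwa [← uliftYonedaEquiv_precomp, ← uliftYonedaEquiv_precomp, Equiv.apply_symm_apply,
      Equiv.apply_symm_apply] at this

end Groth.Agent.AlgSpLib.LimPresLfp
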