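import Groth.Agent.AlgSpLib.LimPresLfp.SpaceLim
import Mathlib.CategoryTheory.Limits.Types.Filtered
import Mathlib.CategoryTheory.Limits.Types.Pullbacks

/-!
# The cartesian square of points on limits
-/

set_option backward.isDefEq.respectTransparency false
set_option backward.isDefEq.respectTransparency.types false

universe u

open CategoryTheory Limits Opposite AlgebraicGeometry AlgSp Groth.Agent.AlgSpDec Groth.Agent.AlgSpPts

namespace Groth.Agent.AlgSpLib.LimPresLfp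

variable {S : Scheme.{u}}

theorem colim_e1 {X Y : Sp S} (f : X ⟶ Y) {I : Type u} [SmallCategory I] (D : I ⥤ Sp S) (i : I)
    (x : D.obj i ⟶ X) :
    colimMap (Functor.whiskerLeft D.op (yoneda.map f)) (colimit.ι (D.op ⋙ yoneda.obj X) (op i) x) =
      colimit.ι (D.op ⋙ yoneda.obj Y) (op i) (x ≫ f : D.obj i ⟶ Y) :=
  congrArg (fun k : (D.op ⋙ yoneda.obj X).obj (op i) ⟶ _ => k x)
    (ι_colimMap (Functor.whiskerLeft D.op (yoneda.map f)) (op i))

theorem colim_e2 {Z : Sp S} {I : Type u} [SmallCategory I] (D : I ⥤ Sp S) (c : Cone D) (i : I)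
    (x : D.obj i ⟶ Z) :
    colimit.desc (D.op ⋙ yoneda.obj Z) ((yoneda.obj Z).mapCocone c.op) (colimit.ι (D.op ⋙ yoneda.obj Z) (op i) x) =
      c.π.app i ≫ x :=
  congrArg (fun k : (D.op ⋙ yoneda.obj Z).obj (op i) ⟶ _ => k x)
    (colimit.ι_desc ((yoneda.obj Z).mapCocone c.op) (op i))

theorem colim_eq_iff' {Z : Sp S} {I : Type u} [SmallCategory I] [IsCofiltered I] (D : I ⥤ Sp S) {i j : I}
    (x : D.obj i ⟶ Z) (y : D.obj j ⟶ Z) :
    colimit.ι (D.op ⋙ yoneda.obj Z) (op i) x = colimit.ι (D.op ⋙ yoneda.obj Z) (op j) y ↔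
      ∃ (k : I) (φ : k ⟶ i) (ψ : k ⟶ j), D.map φ ≫ x = D.map ψ ≫ y := by
  refine (Types.FilteredColimit.colimit_eq_iff _).trans
    ⟨fun ⟨k, φ, ψ, h⟩ => ⟨k.unop, φ.unop, ψ.unop, h⟩, fun ⟨k, φ, ψ, h⟩ => ⟨op k, φ.op, ψ.op, h⟩⟩

variable {X Y : Sp S} (hX : IsAlgSpace X) (hY : IsAlgSpace Y) (f : X ⟶ Y)

include hX hY in
theorem isPullback_colimit_space [QuasiSeparatedSpace ↥S] (hf : LocP @LocallyOfFinitePresentation f)
    {I : Type u} [SmallCategory I] [IsCofiltered I] (D : I ⥤ Sp S)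
    (hDa : ∀ (i j : I) (φ : i ⟶ j), IsAffineMor (D.map φ))
    (hqc : ∀ i, IsQuasiCompactSp (D.obj i)) (hqs : ∀ i, IsQuasiSeparatedSp (D.obj i))
    (c : Cone D) (hc : IsLimit c) :
    IsPullback (colimMap (Functor.whiskerLeft D.op (yoneda.map f)))
      (colimit.desc (D.op ⋙ yoneda.obj X) ((yoneda.obj X).mapCocone c.op))
      (colimit.desc (D.op ⋙ yoneda.obj Y) ((yoneda.obj Y).mapCocone c.op))
      ((yoneda.map f).app (op c.pt)) := by
  rw [Types.isPullback_iff]
  refine ⟨?_, ?_, ?_⟩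
  · refine colimit.hom_ext fun i => ?_
    refine ConcreteCategory.hom_ext _ _ fun x => ?_
    rw [ConcreteCategory.comp_apply, ConcreteCategory.comp_apply, ConcreteCategory.comp_apply,
      ConcreteCategory.comp_apply]
    erw [colim_e1 f D i.unop x, colim_e2 D c i.unop, colim_e2 D c i.unop x]
    exact (Category.assoc _ _ _).symm
  · rintro w₁ w₂ ⟨h1, h2⟩
    obtain ⟨i, x, rfl⟩ := Types.jointly_surjective' w₁
    obtain ⟨j, x', rfl⟩ := Types.jointly_surjective' w₂
    erw [colim_e1 f D i.unop x, colim_e1 f D j.unop x'] at h1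
    erw [colim_e2 D c i.unop x, colim_e2 D c j.unop x'] at h2
    obtain ⟨k, φ, ψ, hk⟩ := (colim_eq_iff' D _ _).1 h1
    obtain ⟨l, χ, hl⟩ := exists_eq_stage_space hX hY f hf D hDa c hc hqc (D.map φ ≫ x) (D.map ψ ≫ x')
      (by rw [Category.assoc, Category.assoc]; exact hk)
      (by rw [← Category.assoc, ← Category.assoc, c.w φ, c.w ψ]; exact h2)
    exact (colim_eq_iff' D _ _).2 ⟨l, χ ≫ φ, χ ≫ ψ, by rw [D.map_comp, D.map_comp, Category.assoc, Category.assoc, hl]⟩
  · intro w x hw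
    obtain ⟨i, y, rfl⟩ := Types.jointly_surjective' w
    erw [colim_e2 D c i.unop y] at hw
    obtain ⟨k, φ, z, hz₁, hz₂⟩ := exists_lift_stage_space hX hY f hf D hDa c hc hqc hqs x y hw.symm
    refine ⟨colimit.ι (D.op ⋙ yoneda.obj X) (op k) z, ?_, (colim_e2 D c k z).trans hz₁⟩
    refine (colim_e1 f D k z).trans ((congrArg _ hz₂).trans ?_)
    exact congrArg (fun q : (D.op ⋙ yoneda.obj Y).obj i ⟶ _ => q y) (colimit.w (D.op ⋙ yoneda.obj Y) φ.op)

include hX hY in
theorem locP_lfp_of_isPullback_colimit [QuasiSeparatedSpace ↥S]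
    (H : ∀ ⦃I : Type u⦄ [SmallCategory I] [IsCofiltered I] (D : I ⥤ Sp S),
      (∀ i, IsAlgSpace (D.obj i)) → (∀ (i j : I) (φ : i ⟶ j), IsAffineMor (D.map φ)) →
      (∀ i, IsQuasiCompactSp (D.obj i)) → (∀ i, IsQuasiSeparatedSp (D.obj i)) →
      ∀ (c : Cone D) (_ : IsLimit c),
        IsPullback (colimMap (Functor.whiskerLeft D.op (yoneda.map f)))
          (colimit.desc (D.op ⋙ yoneda.obj X) ((yoneda.obj X).mapCocone c.op))
          (colimit.desc (D.op ⋙ yoneda.obj Y) ((yoneda.obj Y).mapCocone c.op))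
          ((yoneda.map f).app (op c.pt))) :
    LocP @LocallyOfFinitePresentation f := by
  refine locP_lfp_of_lifts hX hY f ?_
  intro I _ _ D c hc hD hT x i y hxy
  have := IsCofiltered.isConnected I
  have hc' : IsLimit ((yon S).mapCone c) := isLimitOfPreserves (yon S) (isLimitOfReflects (Over.forget S) hc)
  obtain ⟨-, -, hs⟩ := (Types.isPullback_iff _ _ _ _).1 (H (D ⋙ yon S)
    (fun i => IsAlgSpace.yon_obj _)
    (fun i j φ => by
      have := hD i
      have := hD j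
      exact isAffineMor_of_repWith (P := @IsAffineHom) le_rfl
        ((repWith_yon_map_iff _ _).2 (inferInstance : IsAffineHom (D.map φ).left)))
    (fun i => by
      have := hD i
      exact (isQuasiCompactSp_yon_iff _).2 inferInstance)
    (fun i => by
      have := hD i
      exact (isQuasiSeparatedSp_yon_iff' _).2 (quasiSeparated_hom_of_affine _))
    _ hc')
  obtain ⟨w, hw, hwx⟩ := hs (colimit.ι ((D ⋙ yon S).op ⋙ yoneda.obj Y) (op i) y) x
    ((colim_e2 (D ⋙ yon S) _ i y).trans hxy.symm)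
  obtain ⟨j, z, rfl⟩ := Types.jointly_surjective' w
  erw [colim_e1 f (D ⋙ yon S) j.unop z] at hw
  erw [colim_e2 (D ⋙ yon S) _ j.unop z] at hwx
  obtain ⟨k, φ, ψ, hk⟩ := (colim_eq_iff' (D ⋙ yon S) _ _).1 hw
  refine ⟨k, ψ, (yon S).map (D.map φ) ≫ z, ?_, ?_⟩
  · rw [← Functor.map_comp_assoc, c.w φ]
    exact hwx
  · rw [Category.assoc]
    exact hk

end Groth.Agent.AlgSpLib.LimPresLfp
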