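import Groth.Agent.AlgSpLib.LimPresLfp.Crit
import Groth.Agent.AlgSpDec.LimHomScheme
import Groth.Agent.AlgSpDec.LimAffineStage

/-!
# Points on limits of quasi-compact quasi-separated spaces
-/

set_option backward.isDefEq.respectTransparency false
set_option backward.isDefEq.respectTransparency.types false

universe u

open CategoryTheory Limits Opposite AlgebraicGeometry AlgSp Groth.Agent.AlgSpPts Groth.Agent.AlgSpDec

namespace Groth.Agent.AlgSpLib.LimPresLfp

variable {S : Scheme.{u}} {X Y : Sp S} (hX : IsAlgSpace X) (hY : IsAlgSpace Y) (f : X ⟶ Y)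
  (hf : LocP @LocallyOfFinitePresentation f)

variable {I : Type u} [SmallCategory I] [IsCofiltered I] (D : I ⥤ Sp S)
  (hDa : ∀ (i j : I) (φ : i ⟶ j), IsAffineMor (D.map φ)) (c : Cone D) (hc : IsLimit c)
  (hqc : ∀ i, IsQuasiCompactSp (D.obj i))

include hX hY hf hDa hc hqc in
/-- Two points over a stage of a system of spaces agreeing on the limit agree at a finer stage. -/
theorem exists_eq_stage_space {i : I} (z z' : D.obj i ⟶ X) (h : z ≫ f = z' ≫ f)
    (hlim : c.π.app i ≫ z = c.π.app i ≫ z') :
    ∃ (k : I) (φ : k ⟶ i), D.map φ ≫ z = D.map φ ≫ z' := by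
  obtain ⟨U, a, hU, ha, has⟩ := AlgSpDec.exists_affine_atlas (hqc i)
  have : IsAffine U.left := hU
  obtain ⟨W, cW, hcW, p, fst, aW, bW, haw, sqW, hwb, hA, hWA, sqj, hfst, hp⟩ :=
    exists_limit_square'' D hDa c hc i a
  let k₀ : CategoryTheory.Over i := CategoryTheory.Over.mk (𝟙 i)
  obtain ⟨k, ψ, hk⟩ := exists_eq_stage hX hY f hf W cW (isLimitOfPreserves (Over.forget S) hcW) hWA
    (i := k₀) (aW k₀ ≫ z) (aW k₀ ≫ z') (by rw [Category.assoc, Category.assoc, h]) (by
      rw [← Category.assoc, ← Category.assoc ((yon S).map _), ← hfst k₀, Category.assoc, Category.assoc]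
      exact congrArg (fst ≫ ·) hlim)
  rw [← Category.assoc, haw ψ, ← Category.assoc ((yon S).map _) (aW k₀), haw ψ, Category.assoc,
    Category.assoc] at hk
  have : Epi (aW k) := epi_of_etale_surjective (repWith_of_isPullback (sqj k).flip ha)
    (repWith_of_isPullback (sqj k).flip has)
  exact ⟨k.left, ψ.left, (cancel_epi (aW k)).1 hk⟩

include hX hY hf hDa hc hqc in
/-- A point of a limit of spaces over a point of a stage comes from a finer stage. -/
theorem exists_lift_stage_space [QuasiSeparatedSpace ↥S] (hqs : ∀ i, IsQuasiSeparatedSp (D.obj i))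
    {i : I} (x : c.pt ⟶ X) (y : D.obj i ⟶ Y) (hxy : x ≫ f = c.π.app i ≫ y) :
    ∃ (k : I) (φ : k ⟶ i) (z : D.obj k ⟶ X), c.π.app k ≫ z = x ∧ z ≫ f = D.map φ ≫ y := by
  obtain ⟨U, a, hU, ha, has⟩ := AlgSpDec.exists_affine_atlas (hqc i)
  have : IsAffine U.left := hU
  obtain ⟨W, cW, hcW, p, fst, aW, bW, haw, sqW, hwb, hA, hWA, sqj, hfst, hp⟩ :=
    exists_limit_square'' D hDa c hc i a
  let k₀ : CategoryTheory.Over i := CategoryTheory.Over.mk (𝟙 i)
  have : IsAffine cW.pt.left := hA
  obtain ⟨j, φ₀, g, hg', hgf⟩ := exists_lift_stage hX hY f hf W cW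
    (isLimitOfPreserves (Over.forget S) hcW) hWA (i := k₀) (fst ≫ x) (aW k₀ ≫ y) (by
      rw [Category.assoc, hxy, ← Category.assoc, ← Category.assoc ((yon S).map _)]
      exact congrArg (· ≫ y) (hfst k₀))
  have hj : φ₀.left = j.hom := (Category.comp_id _).symm.trans (CategoryTheory.Over.w φ₀)
  have hgf' : g ≫ f = aW j ≫ D.map j.hom ≫ y := by
    rw [hgf, ← Category.assoc, haw φ₀, Category.assoc, hj]
  -- cover the self product of the chart at `j`
  have hje : RepWith @Etale (aW j) := repWith_of_isPullback (sqj j).flip ha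
  have hjs : RepWith @Surjective (aW j) := repWith_of_isPullback (sqj j).flip has
  let R := hje.rep.pullback (aW j)
  have sR : IsPullback ((yon S).map (hje.rep.fst' (aW j))) ((yon S).map (hje.rep.snd (aW j))) (aW j) (aW j) :=
    hje.rep.isPullback' (aW j)
  have : IsAffine (W.obj j).left := hWA j
  have : QuasiCompact (hje.rep.snd (aW j)).left := quasiCompact_fibreProd (hqs j.left) sR
  have : CompactSpace ↥R.left := QuasiCompact.compactSpace_of_compactSpace (hje.rep.snd (aW j)).left
  obtain ⟨Z', r, hZ', hr, hrs⟩ := AlgSpDec.exists_affine_atlas ((isQuasiCompactSp_yon_iff R).2 inferInstance)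
  have : IsAffine Z'.left := hZ'
  obtain ⟨r', rfl⟩ := (yon S).map_surjective r
  let t := r' ≫ hje.rep.fst' (aW j)
  let s := r' ≫ hje.rep.snd (aW j)
  have hts : (yon S).map t ≫ aW j = (yon S).map s ≫ aW j := by
    rw [Functor.map_comp, Functor.map_comp, Category.assoc, Category.assoc, sR.w]
  obtain ⟨W', cW', hcW', p', fst', aW', bW', haw', sqW', hwb', hA', hWA', sqj', hfst', hp'⟩ :=
    exists_limit_square'' D hDa c hc j.left ((yon S).map t ≫ aW j)
  have hsk : IsPullback fst ((yon S).map (cW.π.app j)) (c.π.app j.left) (aW j) := by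
    refine IsPullback.of_bot ?_ (hfst j) (sqj j)
    rw [← Functor.map_comp, ← hp j, c.w]
    exact sqW
  have hlim : (yon S).map p' ≫ (yon S).map t ≫ g = (yon S).map p' ≫ (yon S).map s ≫ g := by
    have e₁ : fst' ≫ c.π.app j.left = ((yon S).map p' ≫ (yon S).map t) ≫ aW j := by
      rw [sqW'.w, Category.assoc]
    have e₂ : fst' ≫ c.π.app j.left = ((yon S).map p' ≫ (yon S).map s) ≫ aW j := by
      rw [sqW'.w, hts, Category.assoc]
    have f₁ := hsk.lift_snd _ _ e₁
    have f₂ := hsk.lift_snd _ _ e₂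
    rw [← Category.assoc, ← Category.assoc, ← f₁, ← f₂, Category.assoc, Category.assoc, hg', ← Category.assoc,
      ← Category.assoc, hsk.lift_fst, hsk.lift_fst]
  let k₁ : CategoryTheory.Over j.left := CategoryTheory.Over.mk (𝟙 j.left)
  obtain ⟨k, ψ, hk⟩ := exists_eq_stage hX hY f hf W' cW' (isLimitOfPreserves (Over.forget S) hcW') hWA'
    (i := k₁) ((yon S).map (bW' k₁ ≫ t) ≫ g) ((yon S).map (bW' k₁ ≫ s) ≫ g) (by
      simp only [Functor.map_comp, Category.assoc, hgf']
      rw [reassoc_of% hts]) (by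
      rw [← Functor.map_comp_assoc, ← Functor.map_comp_assoc, ← Category.assoc, ← Category.assoc _ (bW' k₁),
        ← hp' k₁, Functor.map_comp_assoc, Functor.map_comp_assoc]
      exact hlim)
  rw [← Functor.map_comp_assoc, ← Functor.map_comp_assoc, reassoc_of% (hwb' ψ), reassoc_of% (hwb' ψ)] at hk
  -- descend at the stage `k`
  let l : CategoryTheory.Over i := CategoryTheory.Over.mk (k.hom ≫ j.hom)
  let φ : l ⟶ j := CategoryTheory.Over.homMk k.hom rfl
  have sφ : IsPullback (aW l) ((yon S).map (W.map φ)) (D.map k.hom) (aW j) := by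
    refine IsPullback.of_bot ?_ (haw φ).symm (sqj j)
    rw [← Functor.map_comp, hwb, ← D.map_comp]
    exact sqj l
  have hle : RepWith @Etale (aW l) := repWith_of_isPullback (sqj l).flip ha
  have hls : RepWith @Surjective (aW l) := repWith_of_isPullback (sqj l).flip has
  have sRl : IsPullback ((yon S).map (hle.rep.fst' (aW l))) ((yon S).map (hle.rep.snd (aW l))) (aW l) (aW l) :=
    hle.rep.isPullback' (aW l)
  let tl := hle.rep.fst' (aW l)
  let sl := hle.rep.snd (aW l)
  have hm : (((yon S).map (tl ≫ W.map φ))) ≫ aW j = (yon S).map (sl ≫ W.map φ) ≫ aW j := by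
    rw [Functor.map_comp, Functor.map_comp, Category.assoc, Category.assoc, ← sφ.w, ← Category.assoc, sRl.w,
      Category.assoc]
  let m := sR.lift _ _ hm
  let w : (yon S).obj (hle.rep.pullback (aW l)) ⟶ D.obj k.left := (yon S).map tl ≫ aW l
  have hcond : (pullback.fst m ((yon S).map r') ≫ w) ≫ D.map k.hom = pullback.snd m ((yon S).map r') ≫
      (yon S).map t ≫ aW j := by
    have e : w ≫ D.map k.hom = m ≫ (yon S).map (hje.rep.fst' (aW j)) ≫ aW j := by
      rw [sR.lift_fst_assoc, Functor.map_comp, Category.assoc, Category.assoc, sφ.w]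
    rw [Category.assoc, e, pullback.condition_assoc, Functor.map_comp, Category.assoc]
  let n := (sqj' k).lift _ _ hcond
  have hn : n ≫ (yon S).map (bW' k) = pullback.snd m ((yon S).map r') := (sqj' k).lift_snd _ _ _
  have sQ := IsPullback.of_hasPullback m ((yon S).map r')
  have : Epi (pullback.fst m ((yon S).map r')) :=
    epi_of_etale_surjective (repWith_of_isPullback sQ.flip hr) (repWith_of_isPullback sQ.flip hrs)
  have hdesc : (yon S).map tl ≫ (yon S).map (W.map φ) ≫ g = (yon S).map sl ≫ (yon S).map (W.map φ) ≫ g := by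
    refine (cancel_epi (pullback.fst m ((yon S).map r'))).1 ?_
    have e₁ : pullback.fst m ((yon S).map r') ≫ (yon S).map tl ≫ (yon S).map (W.map φ) ≫ g =
        n ≫ (yon S).map (bW' k ≫ t) ≫ g := by
      simp only [t, Functor.map_comp, Category.assoc]
      rw [reassoc_of% hn, ← pullback.condition_assoc, sR.lift_fst_assoc, Functor.map_comp, Category.assoc]
    have e₂ : pullback.fst m ((yon S).map r') ≫ (yon S).map sl ≫ (yon S).map (W.map φ) ≫ g =
        n ≫ (yon S).map (bW' k ≫ s) ≫ g := by
      simp only [s, Functor.map_comp, Category.assoc]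
      rw [reassoc_of% hn, ← pullback.condition_assoc, sR.lift_snd_assoc, Functor.map_comp, Category.assoc]
    rw [e₁, e₂, hk]
  have := isLocallySurjective_of_etale_surjective hle hls
  obtain ⟨zi, hzi⟩ := exists_desc_of_kernelPair sRl ((yon S).map (W.map φ) ≫ g) hdesc
  refine ⟨k.left, k.hom ≫ j.hom, zi, ?_, ?_⟩
  · have : Epi fst := epi_of_etale_surjective
      (repWith_of_isPullback sqW.flip ha) (repWith_of_isPullback sqW.flip has)
    rw [← cancel_epi fst, ← Category.assoc,
      show fst ≫ c.π.app k.left = (yon S).map (cW.π.app l) ≫ aW l from hfst l, Category.assoc, hzi,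
      ← Functor.map_comp_assoc, cW.w, hg']
  · have : Epi (aW l) := epi_of_etale_surjective hle hls
    rw [← cancel_epi (aW l), ← Category.assoc, hzi, Category.assoc, hgf', D.map_comp, Category.assoc,
      ← Category.assoc, haw φ, Category.assoc]
    rfl

end Groth.Agent.AlgSpLib.LimPresLfp
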